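import Groth.Agent.WeilKer.Geom
import Groth.Agent.GrpSchLib.NilpQuot

/-! The kernel of the counit of a Weil restriction along a purely inseparable extension is nilpotent. -/

universe u

open CategoryTheory CategoryTheory.Limits AlgebraicGeometry MonoidalCategory CartesianMonoidalCategory MonObj
open Groth.Agent.WeilAlg Groth.Agent.GrpSchLib
open scoped TensorProduct commutatorElement

noncomputable section

namespace Groth.Agent.WeilKer

theorem quot_map {R₀ : Type u} [CommRing R₀] {G : Over (Spec (CommRingCat.of R₀))} [GrpObj G] {B D : Type u}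
    [CommRing B] [Algebra R₀ B] [CommRing D] [Algebra R₀ D] (π : B →ₐ[R₀] D) (J : Ideal B) (z : specO R₀ B ⟶ G)
    (hz : specOMap (Ideal.Quotient.mkₐ R₀ J) ≫ z = 1) :
    specOMap (Ideal.Quotient.mkₐ R₀ (J.map π)) ≫ specOMap π ≫ z = 1 := by
  let f : (B ⧸ J) →ₐ[R₀] D ⧸ J.map π :=
    Ideal.Quotient.liftₐ _ ((Ideal.Quotient.mkₐ R₀ (J.map π)).comp π) fun a ha =>
      Ideal.Quotient.eq_zero_iff_mem.mpr (Ideal.mem_map_of_mem _ ha)
  have hf : f.comp (Ideal.Quotient.mkₐ R₀ J) = (Ideal.Quotient.mkₐ R₀ (J.map π)).comp π := AlgHom.ext fun _ => rfl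
  rw [← Category.assoc, ← specOMap_comp, ← hf, specOMap_comp, Category.assoc, hz, MonObj.comp_one]

theorem exists_uniform_bound (k k' : Type u) [Field k] [Field k'] [Algebra k k'] [Module.Finite k k']
    [IsPurelyInseparable k k'] :
    ∃ m : ℕ, ∀ (C : Type u) [CommRing C] [Algebra k C] [Algebra k' C] [IsScalarTower k k' C],
      RingHom.ker (mult (B := k) (B' := k') C).toRingHom ^ (m + 1) = ⊥ := by
  obtain ⟨m, hm⟩ := mult_ker_nilpotent k k' k'
  refine ⟨m, fun C _ _ _ _ => le_bot_iff.mp ?_⟩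
  let φ : k' ⊗[k] k' →ₐ[k'] k' ⊗[k] C :=
    Algebra.TensorProduct.map (AlgHom.id k' k') ((Algebra.ofId k' C).restrictScalars k)
  let J₀ := RingHom.ker (mult (B := k) (B' := k') k').toRingHom
  have h : ∀ d : k' ⊗[k] C, d - 1 ⊗ₜ mult (B := k) (B' := k') C d ∈ J₀.map φ := by
    intro d
    induction d using TensorProduct.induction_on with
    | zero => simp
    | tmul b c =>
      have hb : b ⊗ₜ[k] (1 : k') - 1 ⊗ₜ b ∈ J₀ := by
        show mult (B := k) (B' := k') k' _ = 0
        simp [mult_tmul]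
      have e : b ⊗ₜ[k] c - 1 ⊗ₜ mult C (b ⊗ₜ[k] c) = φ (b ⊗ₜ[k] (1 : k') - 1 ⊗ₜ b) * ((1 : k') ⊗ₜ[k] c) := by
        simp [φ, mult_tmul, sub_mul, Algebra.ofId_apply]
      rw [e]
      exact Ideal.mul_mem_right _ _ (Ideal.mem_map_of_mem _ hb)
    | add x y hx hy =>
      have := (J₀.map φ).add_mem hx hy
      rw [map_add, TensorProduct.tmul_add]
      convert this using 1
      abel
  have hle : RingHom.ker (mult (B := k) (B' := k') C).toRingHom ≤ J₀.map φ := fun d hd => by
    have := h d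
    rwa [show mult (B := k) (B' := k') C d = 0 from hd, TensorProduct.tmul_zero, sub_zero] at this
  refine (Ideal.pow_right_mono hle _).trans ?_
  rw [← Ideal.map_pow, hm, Ideal.map_bot]

variable (k k' : Type u) [Field k] [Field k'] [Algebra k k'] [Module.Finite k k'] [IsPurelyInseparable k k']
  {G' : Over (Spec (CommRingCat.of k'))} [GrpObj G'] [LocallyOfFiniteType G'.hom]
  {R : Over (Spec (CommRingCat.of k))} [GrpObj R]
  (q : Red.bc (Spec.map (CommRingCat.ofHom (algebraMap k k'))) R ⟶ G') [IsMonHom q]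
  (hR : WeilRes.IsWeilRes (Spec.map (CommRingCat.ofHom (algebraMap k k'))) G' R q)
  {K : Over (Spec (CommRingCat.of k'))} [GrpObj K]
  (iK : K ⟶ Red.bc (Spec.map (CommRingCat.ofHom (algebraMap k k'))) R) [IsMonHom iK]
  (hK : AlgGrp.IsKernel iK q)

/-- The point is trivial modulo the `r`-th power of the kernel of the multiplication. -/
def TrivAt (r : ℕ) (C : Type u) [CommRing C] [Algebra k C] [Algebra k' C] [IsScalarTower k k' C]
    (g : specO k' C ⟶ K) : Prop :=
  specOMap (Ideal.Quotient.mkₐ k' (RingHom.ker (mult (B := k) (B' := k') C).toRingHom ^ r)) ≫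
    toZ k k' q iK C g = 1

omit [Module.Finite k k'] [IsPurelyInseparable k k'] [LocallyOfFiniteType G'.hom] in
include hK in
theorem trivAt_one (C : Type u) [CommRing C] [Algebra k C] [Algebra k' C] [IsScalarTower k k' C]
    (g : specO k' C ⟶ K) : TrivAt k k' q iK 1 C g := by
  let J := RingHom.ker (mult (B := k) (B' := k') C).toRingHom
  let e : (k' ⊗[k] C ⧸ J ^ 1) →ₐ[k'] C := Ideal.Quotient.liftₐ _ (mult (B := k) (B' := k') C) fun a ha => by
    rw [_root_.pow_one] at ha; exact ha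
  refine eq_one_of_bijective e ⟨?_, fun c => ?_⟩ _ ?_
  · refine (injective_iff_map_eq_zero e).mpr fun a ha => ?_
    obtain ⟨b, rfl⟩ := Ideal.Quotient.mk_surjective a
    refine Ideal.Quotient.eq_zero_iff_mem.mpr ?_
    rw [_root_.pow_one]; exact ha
  · exact ⟨Ideal.Quotient.mk _ (1 ⊗ₜ c), by
      show mult (B := k) (B' := k') C (1 ⊗ₜ c) = c
      simp [mult_tmul]⟩
  · rw [← Category.assoc, ← specOMap_comp]
    exact toZ_mult k k' q iK C hK g

omit [Module.Finite k k'] [IsPurelyInseparable k k'] [LocallyOfFiniteType G'.hom] in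
theorem toZ_commutator (C : Type u) [CommRing C] [Algebra k C] [Algebra k' C] [IsScalarTower k k' C]
    (g₁ g₂ : specO k' C ⟶ K) :
    toZ k k' q iK C ⁅g₁, g₂⁆ = ⁅toZ k k' q iK C g₁, toZ k k' q iK C g₂⁆ :=
  map_commutatorElement (MonoidHom.mk' (toZ k k' q iK C) (toZ_mul k k' q iK C)) g₁ g₂

include hK in
theorem trivAt_commutator {m : ℕ} {C : Type u} [CommRing C] [Algebra k C] [Algebra k' C] [IsScalarTower k k' C]
    (hm : RingHom.ker (mult (B := k) (B' := k') C).toRingHom ^ (m + 1) = ⊥) {r : ℕ} (hr : 1 ≤ r)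
    (g₁ g₂ : specO k' C ⟶ K) (h₁ : TrivAt k k' q iK r C g₁) : TrivAt k k' q iK (r + 1) C ⁅g₁, g₂⁆ := by
  obtain ⟨A, _, _, jU, ε, hjU, -, hε, -⟩ := exists_chart k' G'
  haveI := hjU
  have h₂ := trivAt_one k k' q iK hK C g₂
  let J := RingHom.ker (mult (B := k) (B' := k') C).toRingHom
  let π : k' ⊗[k] C →ₐ[k'] k' ⊗[k] C ⧸ J ^ (r + 1) := Ideal.Quotient.mkₐ k' _
  let I : Ideal (k' ⊗[k] C ⧸ J ^ (r + 1)) := (J ^ r).map π
  let J' : Ideal (k' ⊗[k] C ⧸ J ^ (r + 1)) := (J ^ 1).map π
  have hbot : (J ^ (r + 1)).map π = ⊥ := Ideal.map_quotient_self _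
  have hII : I * I = ⊥ := by
    rw [← Ideal.map_mul, ← pow_add]
    exact le_bot_iff.mp ((Ideal.map_mono (Ideal.pow_le_pow_right (by omega))).trans hbot.le)
  have hIJ : I * J' = ⊥ := by
    rw [← Ideal.map_mul, ← pow_add]
    exact hbot
  have hJ' : J' ≤ nilradical _ := Ideal.map_le_iff_le_comap.mpr fun d hd => ⟨m + 1, by
    have hd' : d ∈ J := by rwa [_root_.pow_one] at hd
    have := Ideal.pow_mem_pow hd' (m + 1)
    rw [hm] at this
    rw [← map_pow, show d ^ (m + 1) = 0 from this, map_zero]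
    rfl⟩
  show specOMap π ≫ toZ k k' q iK C ⁅g₁, g₂⁆ = 1
  rw [toZ_commutator, NilpQuot.comp_commutator, commutatorElement_eq_one_iff_commute]
  exact commute_of_mul_eq_zero jU ε hε I J' hII hIJ hJ' _ _ (quot_map π _ _ h₁) (quot_map π _ _ h₂)

include hR hK in
theorem exists_nilpotentAt : ∃ n, NilpQuot.NilpotentAt n K := by
  obtain ⟨m, hm⟩ := exists_uniform_bound k k'
  refine ⟨m, ?_⟩
  suffices H : ∀ j r : ℕ, 1 ≤ r → r + j = m + 1 → ∀ (T : Over (Spec (CommRingCat.of k'))) (x : T ⟶ K),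
      (∀ (C : Type u) [CommRing C] [Algebra k C] [Algebra k' C] [IsScalarTower k k' C] (f : specO k' C ⟶ T),
        TrivAt k k' q iK r C (f ≫ x)) → NilpQuot.CentralAt K j T x from
    fun T x => H m 1 le_rfl (Nat.add_comm 1 m) T x fun C _ _ _ _ f => trivAt_one k k' q iK hK C _
  intro j
  induction j with
  | zero =>
    intro r _ hrm T x hx
    let 𝒰 := T.left.affineOpenCover.openCover
    refine Over.OverMorphism.ext (Scheme.Cover.hom_ext 𝒰 _ _ fun i => ?_)
    let C : Type u := T.left.affineOpenCover.X i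
    let φ : CommRingCat.of k' ⟶ T.left.affineOpenCover.X i := Spec.preimage (𝒰.f i ≫ T.hom)
    letI : Algebra k' C := φ.hom.toAlgebra
    letI : Algebra k C := ((algebraMap k' C).comp (algebraMap k k')).toAlgebra
    haveI : IsScalarTower k k' C := IsScalarTower.of_algebraMap_eq fun _ => rfl
    let f : specO k' C ⟶ T := Over.homMk (𝒰.f i) (Spec.map_preimage _).symm
    have h1 : toZ k k' q iK C (f ≫ x) = 1 := by
      refine eq_one_of_bijective _ ⟨?_, Ideal.Quotient.mkₐ_surjective _ _⟩ _ (hx C f)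
      refine (injective_iff_map_eq_zero _).mpr fun a ha => ?_
      have h' := Ideal.Quotient.eq_zero_iff_mem.mp ha
      rw [show r = m + 1 by omega, hm C] at h'
      exact h'
    have h2 : f ≫ x = f ≫ 1 := by
      rw [MonObj.comp_one]
      exact toZ_injective k k' q iK C hK hR (h1.trans (toZ_one k k' q iK C).symm)
    exact congrArg Over.Hom.left h2
  | succ j ih =>
    intro r hr hrm T x hx T' t y
    refine ih (r + 1) (by omega) (by omega) T' _ fun C _ _ _ _ f => ?_
    rw [NilpQuot.comp_commutator, ← Category.assoc]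
    exact trivAt_commutator k k' q iK hK (hm C) hr _ _ (hx C (f ≫ t))

end Groth.Agent.WeilKer
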